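import Mathlib
import Cfsg.Agent.S0877

/-!
A finite `π`-homogeneous group in which every `π`-subgroup is conjugate into one Hall `π`-subgroup `H`
has a normal `π`-complement.

By induction from above on the size of `p`-subgroups, `H` controls the fusion of its `p`-elements;
the centraliser of such an element satisfies the same hypothesis with Hall subgroup its centraliser
in `H`, so `H` controls the fusion of all its elements and the theorem of Brauer and Suzuki applies.
-/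

set_option autoImplicit false
set_option linter.unusedSectionVars false

namespace CfsgLib.Fusion.PiHomogeneous

open Subgroup

universe u

variable {G : Type u} [Group G] [Finite G]

/-- A number all of whose prime divisors lie in `π`. -/
def PiN (π : Set ℕ) (n : ℕ) : Prop := ∀ q : ℕ, q.Prime → q ∣ n → q ∈ π

theorem PiN.of_dvd {π : Set ℕ} {m n : ℕ} (h : PiN π n) (hd : m ∣ n) : PiN π m :=
  fun q hq hqm => h q hq (hqm.trans hd)

theorem PiN.mul {π : Set ℕ} {m n : ℕ} (hm : PiN π m) (hn : PiN π n) : PiN π (m * n) :=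
  fun q hq hd => (hq.dvd_mul.1 hd).elim (hm q hq) (hn q hq)

theorem piN_prime_pow {π : Set ℕ} {p : ℕ} (hp : p.Prime) (hpπ : p ∈ π) (k : ℕ) : PiN π (p ^ k) :=
  fun q hq hd => by rwa [(Nat.prime_dvd_prime_iff_eq hq hp).1 (hq.dvd_of_dvd_pow hd)]

/-- The hypothesis: `H` is a Hall `π`-subgroup into which every `π`-subgroup can be conjugated, and
the automisers of nontrivial `π`-subgroups are `π`-groups. -/
structure Setup (π : Set ℕ) (H : Subgroup G) : Prop where
  prime : ∀ p ∈ π, p.Prime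
  piH : PiN π (Nat.card H)
  hall : ∀ p ∈ π, ¬ p ∣ H.index
  dom : ∀ U : Subgroup G, PiN π (Nat.card U) → ∃ g : G, U.map (MulAut.conj g).toMonoidHom ≤ H
  auto : ∀ Q : Subgroup G, Q ≠ ⊥ → PiN π (Nat.card Q) →
    PiN π ((centralizer (Q : Set G)).relIndex (normalizer (Q : Set G)))

theorem card_mul_relIndex_eq {A B : Subgroup G} (h : A ≤ B) :
    Nat.card A * A.relIndex B = Nat.card B := by
  rw [← relIndex_bot_left A, ← relIndex_bot_left B, relIndex_mul_relIndex ⊥ A B bot_le h]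

theorem relIndex_sup_of_le {H K : Subgroup G} (h : H ≤ normalizer (K : Set G)) :
    K.relIndex (H ⊔ K) = K.relIndex H := by
  haveI : (K.subgroupOf (normalizer (K : Set G))).Normal := normal_in_normalizer
  rw [← relIndex_subgroupOf (H := K) (sup_le h le_normalizer), ← relIndex_subgroupOf (H := K) h,
    subgroupOf_sup h le_normalizer, relIndex_sup_right]

theorem map_conj_normal (C : Subgroup G) [C.Normal] (g : G) : C.map (MulAut.conj g).toMonoidHom = C := by
  refine eq_of_le_of_card_ge ?_ (card_map_of_injective (MulAut.conj g).injective).ge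
  rintro _ ⟨c, hc, rfl⟩
  exact Subgroup.Normal.conj_mem inferInstance c hc g

theorem mem_map_conj {U : Subgroup G} {g y : G} :
    y ∈ U.map (MulAut.conj g).toMonoidHom ↔ g⁻¹ * y * g ∈ U := by
  constructor
  · rintro ⟨u, hu, rfl⟩
    show g⁻¹ * (g * u * g⁻¹) * g ∈ U
    rwa [show g⁻¹ * (g * u * g⁻¹) * g = u by group]
  · intro h
    exact ⟨_, h, show g * (g⁻¹ * y * g) * g⁻¹ = y by group⟩

theorem conj_mem_of_le {U V : Subgroup G} {g : G} (h : U.map (MulAut.conj g).toMonoidHom ≤ V) {x : G}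
    (hx : x ∈ U) : g * x * g⁻¹ ∈ V := h ⟨x, hx, rfl⟩

/-- A `π`-subgroup covering an automiser with a `π`-number of elements and containing a Sylow
`p`-subgroup. -/
theorem exists_cover {π : Set ℕ} {p : ℕ} [Fact p.Prime] (hpπ : p ∈ π) (C : Subgroup G) [C.Normal]
    (hC : PiN π C.index) :
    ∃ U : Subgroup G, PiN π (Nat.card U) ∧ U ⊔ C = ⊤ ∧ ¬ p ∣ U.index := by
  classical
  obtain ⟨Z⟩ : Nonempty (Sylow p ↥C) := inferInstance
  set Z0 := (Z : Subgroup ↥C).map C.subtype
  set M := normalizer (Z0 : Set G)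
  have hM : M ⊔ C = ⊤ := Sylow.normalizer_sup_eq_top Z
  obtain ⟨W, ⟨hWM, hWC⟩, hmin⟩ := exists_minimal_of_wellFoundedLT
    (fun W : Subgroup G => W ≤ M ∧ W ⊔ C = ⊤) ⟨M, le_rfl, hM⟩
  have hWi : (C.subgroupOf W).index = C.index := by
    have h1 : C.relIndex (W ⊔ C) = C.relIndex W := relIndex_sup_right ..
    rw [hWC, relIndex_top_right] at h1
    exact h1.symm
  have hWπ : PiN π (Nat.card W) := by
    intro q hq hd
    by_contra hqπ
    haveI : Fact q.Prime := ⟨hq⟩
    set D := C.subgroupOf W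
    have hqD : ¬ q ∣ D.index := fun h => hqπ (hC q hq (hWi ▸ h))
    obtain ⟨Q⟩ : Nonempty (Sylow q ↥D) := inferInstance
    set Q0 := (Q : Subgroup ↥D).map D.subtype
    have hfr : normalizer (Q0 : Set ↥W) ⊔ D = ⊤ := Sylow.normalizer_sup_eq_top Q
    -- a proper subgroup supplementing `D` contradicts minimality
    have key : ∀ V : Subgroup ↥W, V ⊔ D = ⊤ → V = ⊤ := by
      intro V hV
      have h1 : V.map W.subtype ≤ W := map_subtype_le V
      have h2 : V.map W.subtype ⊔ C = ⊤ := by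
        refine eq_top_iff.2 (hWC ▸ sup_le ?_ le_sup_right)
        have h3 := congrArg (map W.subtype) hV
        rw [Subgroup.map_sup, ← MonoidHom.range_eq_map, range_subtype] at h3
        refine h3.ge.trans ?_
        refine sup_le le_sup_left (le_trans ?_ le_sup_right)
        rintro _ ⟨z, hz, rfl⟩
        exact mem_subgroupOf.1 hz
      have h4 := hmin ⟨h1.trans hWM, h2⟩ h1
      refine eq_top_iff.2 fun x _ => ?_
      obtain ⟨v, hv, hvx⟩ := h4 x.2
      rwa [← Subtype.ext (a1 := v) (a2 := x) hvx]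
    have hQn : Q0.Normal := normalizer_eq_top_iff.1 (key _ hfr)
    have hQc : Nat.card Q0 = q ^ (Nat.card ↥W).factorization q := by
      rw [card_map_of_injective D.subtype_injective, Q.card_eq_multiplicity]
      congr 1
      rw [← D.card_mul_index, Nat.factorization_mul Nat.card_pos.ne' index_ne_zero_of_finite,
        Finsupp.add_apply, Nat.factorization_eq_zero_of_not_dvd hqD, add_zero]
    have hcop : (Nat.card Q0).Coprime Q0.index := by
      rw [hQc]
      refine Nat.Coprime.pow_left _ (hq.coprime_iff_not_dvd.2 fun h => ?_)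
      have h1 := mul_dvd_mul (dvd_refl (Nat.card Q0)) h
      rw [card_mul_index, hQc, ← pow_succ] at h1
      exact absurd ((hq.pow_dvd_iff_le_factorization Nat.card_pos.ne').1 h1) (by omega)
    obtain ⟨V, hV⟩ := exists_right_complement'_of_coprime hcop
    have hVtop : V = ⊤ := key V (eq_top_iff.2 (hV.symm.sup_eq_top.ge.trans
      (sup_le_sup le_rfl (map_subtype_le _))))
    have h1 : Nat.card Q0 = 1 := by
      have := hV.card_mul
      rw [hVtop, card_top] at this
      exact (Nat.mul_eq_right Nat.card_pos.ne').1 this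
    rw [hQc] at h1
    have := (hq.dvd_iff_one_le_factorization Nat.card_pos.ne').1 hd
    rcases Nat.pow_eq_one.1 h1 with h | h
    · exact hq.one_lt.ne' h
    · omega
  have hZC : Z0 ≤ C := map_subtype_le _
  have hcard : Nat.card ↥(W ⊔ Z0) ∣ Nat.card W * Nat.card Z0 := by
    have h1 := card_mul_relIndex_eq (le_sup_right : Z0 ≤ W ⊔ Z0)
    rw [relIndex_sup_of_le (show W ≤ normalizer (Z0 : Set G) from hWM)] at h1
    rw [← h1, mul_comm]
    exact mul_dvd_mul (relIndex_dvd_card _ _) dvd_rfl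
  refine ⟨W ⊔ Z0, ?_, ?_, ?_⟩
  · refine PiN.of_dvd (hWπ.mul ?_) hcard
    rw [card_map_of_injective C.subtype_injective, Z.card_eq_multiplicity]
    exact piN_prime_pow Fact.out hpπ _
  · exact eq_top_iff.2 (hWC ▸ sup_le (le_sup_left.trans le_sup_left) le_sup_right)
  · intro h
    -- `|W ⊔ Z0|` is divisible by `[G : C]` times `|Z0|`
    have h1 := card_mul_relIndex_eq (inf_le_right : C ⊓ (W ⊔ Z0) ≤ W ⊔ Z0)
    have h2 : (C ⊓ (W ⊔ Z0)).relIndex (W ⊔ Z0) = C.index := by
      rw [inf_relIndex_right, ← relIndex_sup_right (H := W ⊔ Z0) (K := C),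
        show (W ⊔ Z0) ⊔ C = ⊤ from eq_top_iff.2 (hWC ▸ sup_le (le_sup_left.trans le_sup_left) le_sup_right),
        relIndex_top_right]
    have h3 : Nat.card Z0 * C.index ∣ Nat.card ↥(W ⊔ Z0) := by
      rw [← h1, h2]
      exact mul_dvd_mul (card_dvd_of_le (le_inf hZC le_sup_right)) dvd_rfl
    have h4 := mul_dvd_mul h3 h
    rw [card_mul_index, ← C.card_mul_index, card_map_of_injective C.subtype_injective] at h4
    have h5 := (Z : Subgroup ↥C).card_mul_index
    rw [← h5, mul_assoc, mul_assoc, mul_comm C.index p] at h4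
    have h6 := Nat.dvd_of_mul_dvd_mul_left Nat.card_pos h4
    exact Z.not_dvd_index (Nat.dvd_of_mul_dvd_mul_right
      (Nat.pos_of_ne_zero index_ne_zero_of_finite) h6)

variable {π : Set ℕ} {H : Subgroup G}

/-- `H` controls the fusion in a Sylow `p`-subgroup. -/
theorem controls (hS : Setup π H) {p : ℕ} [Fact p.Prime] (hpπ : p ∈ π) (P : Sylow p G)
    (hPH : (P : Subgroup G) ≤ H) :
    ∀ Q : Subgroup G, Q ≤ (P : Subgroup G) → ∀ g : G, (∀ q ∈ Q, g * q * g⁻¹ ∈ (P : Subgroup G)) →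
      ∃ h ∈ H, ∀ q ∈ Q, g * q * g⁻¹ = h * q * h⁻¹ := by
  suffices main : ∀ (k : ℕ) (Q : Subgroup G), Nat.card (P : Subgroup G) - Nat.card Q = k →
      Q ≤ (P : Subgroup G) → ∀ g : G, (∀ q ∈ Q, g * q * g⁻¹ ∈ (P : Subgroup G)) →
      ∃ h ∈ H, ∀ q ∈ Q, g * q * g⁻¹ = h * q * h⁻¹ from fun Q => main _ Q rfl
  intro k
  induction k using Nat.strong_induction_on with
  | _ k ih =>
  intro Q hk hQP g hg
  by_cases hQ1 : Q = ⊥
  · exact ⟨1, one_mem _, fun q hq => by rw [hQ1, mem_bot] at hq; subst hq; group⟩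
  -- bigger subgroups are controlled
  have big : ∀ (R : Subgroup G), R ≤ (P : Subgroup G) → Nat.card Q < Nat.card R →
      ∀ g : G, (∀ q ∈ R, g * q * g⁻¹ ∈ (P : Subgroup G)) → ∃ h ∈ H, ∀ q ∈ R, g * q * g⁻¹ = h * q * h⁻¹ := by
    intro R hR hlt
    have := card_le_of_le hR
    exact ih _ (by omega) R rfl hR
  -- automisers of subgroups with Sylow normaliser
  have FN : ∀ (Q0 : Subgroup G), Q0 ≤ (P : Subgroup G) → Nat.card Q0 = Nat.card Q →
      ¬ p ∣ ((P : Subgroup G) ⊓ normalizer (Q0 : Set G)).relIndex (normalizer (Q0 : Set G)) →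
      ∀ n ∈ normalizer (Q0 : Set G), ∃ h ∈ H, ∀ q ∈ Q0, n * q * n⁻¹ = h * q * h⁻¹ := by
    intro Q0 hQ0P hcard0 hfull n hn
    set N := normalizer (Q0 : Set G)
    set C := centralizer (Q0 : Set G)
    have hCN : C ≤ N := centralizer_le_normalizer _
    haveI : (C.subgroupOf N).Normal := inferInstance
    have hQ0ne : Q0 ≠ ⊥ := fun h => hQ1 (card_eq_one.1 (by rw [← hcard0, h, card_bot]))
    have hQ0π : PiN π (Nat.card Q0) := by
      obtain ⟨j, hj⟩ := (P.isPGroup'.to_le hQ0P).exists_card_eq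
      rw [hj]; exact piN_prime_pow Fact.out hpπ j
    obtain ⟨U, hUπ, hUC, hUp⟩ := exists_cover (p := p) hpπ (C.subgroupOf N) (hS.auto Q0 hQ0ne hQ0π)
    -- move the Sylow subgroup `R` into `U`
    set R := ((P : Subgroup G) ⊓ N).subgroupOf N
    have hRp : IsPGroup p R :=
      (P.isPGroup'.to_le inf_le_left).of_equiv (subgroupOfEquivOfLe inf_le_right).symm
    obtain ⟨TU⟩ : Nonempty (Sylow p ↥U) := inferInstance
    let TN : Sylow p ↥N := (TU.isPGroup'.map U.subtype).toSylow (by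
      show ¬ p ∣ ((TU : Subgroup ↥U).map U.subtype).index
      rw [index_map_subtype]
      exact fun h => ((Fact.out : p.Prime).dvd_mul.1 h).elim TU.not_dvd_index hUp)
    let RN : Sylow p ↥N := hRp.toSylow (fun h => hfull h)
    obtain ⟨n0, hn0⟩ := MulAction.exists_smul_eq ↥N TN RN
    set U' := (U.map (MulAut.conj n0).toMonoidHom).map N.subtype
    have hU'π : PiN π (Nat.card U') := by
      rw [card_map_of_injective N.subtype_injective, card_map_of_injective (MulAut.conj n0).injective]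
      exact hUπ
    have hRU : ∀ r ∈ (P : Subgroup G) ⊓ N, r ∈ U' := by
      intro r hr
      have h1 : (⟨r, hr.2⟩ : ↥N) ∈ (RN : Subgroup ↥N) := hr
      rw [← hn0, Sylow.coe_subgroup_smul] at h1
      obtain ⟨t, ht, hte⟩ := h1
      exact ⟨⟨r, hr.2⟩, ⟨t, map_subtype_le _ ht, hte⟩, rfl⟩
    have hcov : ∀ m ∈ N, ∃ c ∈ C, ∃ u ∈ U', m = c * u := by
      intro m hm
      have h1 : (C.subgroupOf N) ⊔ U.map (MulAut.conj n0).toMonoidHom = ⊤ := by
        have h2 := congrArg (map (MulAut.conj n0).toMonoidHom) hUC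
        rw [Subgroup.map_sup, map_top_of_surjective _ (MulAut.conj n0).surjective,
          map_conj_normal (C.subgroupOf N) n0] at h2
        rwa [sup_comm]
      obtain ⟨c, hc, u, hu, he⟩ := mem_sup_of_normal_left.1 (h1 ▸ mem_top (⟨m, hm⟩ : ↥N))
      exact ⟨c, hc, u, ⟨u, hu, rfl⟩, (congrArg Subtype.val he).symm⟩
    obtain ⟨g0, hg0⟩ := hS.dom U' hU'π
    -- move `g0 R g0⁻¹` into `P` inside `H`
    obtain ⟨h0, hh0, hg1⟩ : ∃ h0 ∈ H, ∀ r ∈ (P : Subgroup G) ⊓ N,
        h0 * g0 * r * (h0 * g0)⁻¹ ∈ (P : Subgroup G) := by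
      let PH : Sylow p ↥H := (P.isPGroup'.of_equiv (subgroupOfEquivOfLe hPH).symm).toSylow (by
        intro h
        exact P.not_dvd_index (h.trans (Dvd.intro _ (relIndex_mul_index hPH))))
      set R1 := ((P : Subgroup G) ⊓ N).map (MulAut.conj g0).toMonoidHom
      have hR1 : R1 ≤ H := by
        rintro _ ⟨r, hr, rfl⟩; exact conj_mem_of_le hg0 (hRU r hr)
      obtain ⟨T1, hT1⟩ := (((P.isPGroup'.to_le inf_le_left).map _).of_equiv
        (subgroupOfEquivOfLe hR1).symm : IsPGroup p (R1.subgroupOf H)).exists_le_sylow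
      obtain ⟨h1, hh1⟩ := MulAction.exists_smul_eq ↥H T1 PH
      refine ⟨h1, h1.2, fun r hr => ?_⟩
      have hz : h1 * ⟨g0 * r * g0⁻¹, hR1 ⟨r, hr, rfl⟩⟩ * h1⁻¹ ∈ (PH : Subgroup ↥H) := by
        rw [← hh1, Sylow.coe_subgroup_smul]
        exact ⟨_, hT1 (show g0 * r * g0⁻¹ ∈ R1 from ⟨r, hr, rfl⟩), rfl⟩
      have hz' : (h1 : G) * (g0 * r * g0⁻¹) * (h1 : G)⁻¹ ∈ (P : Subgroup G) := hz
      rwa [show (h1 : G) * g0 * r * ((h1 : G) * g0)⁻¹ = h1 * (g0 * r * g0⁻¹) * (h1 : G)⁻¹ by group]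
    set g1 := h0 * g0
    have hg1U : ∀ u ∈ U', g1 * u * g1⁻¹ ∈ H := by
      intro u hu
      rw [show g1 * u * g1⁻¹ = h0 * (g0 * u * g0⁻¹) * h0⁻¹ by simp only [g1]; group]
      exact mul_mem (mul_mem hh0 (conj_mem_of_le hg0 hu)) (inv_mem hh0)
    have hQ0R : Q0 ≤ (P : Subgroup G) ⊓ N := le_inf hQ0P le_normalizer
    by_cases hQ0e : Q0 = (P : Subgroup G)
    · -- `g1` normalises `P`
      have hg1N : g1 ∈ N := by
        have hmap : Q0.map (MulAut.conj g1).toMonoidHom = Q0 := by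
          refine eq_of_le_of_card_ge ?_ (card_map_of_injective (MulAut.conj g1).injective).ge
          rintro _ ⟨q, hq, rfl⟩
          exact hQ0e.ge (hg1 q (hQ0R hq))
        refine mem_normalizer_iff.2 fun q => ⟨fun hq => hmap.le ⟨q, hq, rfl⟩, fun hq => ?_⟩
        obtain ⟨z, hz, hze⟩ := hmap.ge hq
        obtain rfl : z = q := mul_left_cancel (mul_right_cancel hze)
        exact hz
      obtain ⟨c, hc, u, hu, he⟩ := hcov (g1⁻¹ * n * g1) (mul_mem (mul_mem (inv_mem hg1N) hn) hg1N)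
      refine ⟨g1 * u * g1⁻¹, hg1U u hu, fun q hq => ?_⟩
      have hq' : g1⁻¹ * q * g1 ∈ Q0 := (mem_normalizer_iff''.1 hg1N q).1 hq
      have huN : u ∈ N := map_subtype_le _ hu
      have huq : u * (g1⁻¹ * q * g1) * u⁻¹ ∈ Q0 := (mem_normalizer_iff.1 huN _).1 hq'
      have hcq := hc _ huq
      calc n * q * n⁻¹ = g1 * ((g1⁻¹ * n * g1) * (g1⁻¹ * q * g1) * (g1⁻¹ * n * g1)⁻¹) * g1⁻¹ := by group
        _ = g1 * (c * (u * (g1⁻¹ * q * g1) * u⁻¹) * c⁻¹) * g1⁻¹ := by rw [he]; group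
        _ = g1 * (u * (g1⁻¹ * q * g1) * u⁻¹) * g1⁻¹ := by rw [← hcq]; group
        _ = _ := by group
    · have hlt : Nat.card Q < Nat.card ↥((P : Subgroup G) ⊓ N) := by
        rw [← hcard0]
        haveI := P.isPGroup'.isNilpotent
        have h2 := Group.normalizerCondition_of_isNilpotent (Q0.subgroupOf (P : Subgroup G))
          (lt_top_iff_ne_top.2 fun h => hQ0e (le_antisymm hQ0P (subgroupOf_eq_top.1 h)))
        obtain ⟨z, hz, hz'⟩ := SetLike.exists_of_lt h2
        have hzN : (z : G) ∈ N := by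
          refine mem_normalizer_iff.2 fun q => ⟨fun hq => ?_, fun hq => ?_⟩
          · exact (mem_normalizer_iff.1 hz ⟨q, hQ0P hq⟩).1 hq
          · have hqP : q ∈ (P : Subgroup G) := by
              have := mul_mem (mul_mem (inv_mem z.2) (hQ0P hq)) z.2
              rwa [show (z : G)⁻¹ * ((z : G) * q * (z : G)⁻¹) * z = q by group] at this
            exact (mem_normalizer_iff.1 hz ⟨q, hqP⟩).2 hq
        rw [show Nat.card ↥Q0 = (Q0 : Set G).ncard from Nat.card_coe_set_eq _,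
          show Nat.card ↥((P : Subgroup G) ⊓ N) = (((P : Subgroup G) ⊓ N : Subgroup G) : Set G).ncard from Nat.card_coe_set_eq _]
        refine Set.ncard_lt_ncard ((Set.ssubset_iff_of_subset hQ0R).2 ⟨z, ⟨z.2, hzN⟩, hz'⟩) (Set.toFinite _)
      obtain ⟨h, hh, hheq⟩ := big _ inf_le_left hlt g1 hg1
      obtain ⟨c', hc', u, hu, he⟩ := hcov n hn
      refine ⟨h⁻¹ * (g1 * u * g1⁻¹) * h, mul_mem (mul_mem (inv_mem hh) (hg1U u hu)) hh, fun q hq => ?_⟩
      have hc : ∀ x ∈ Q0, (h⁻¹ * g1) * x * (h⁻¹ * g1)⁻¹ = x := by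
        intro x hx
        calc (h⁻¹ * g1) * x * (h⁻¹ * g1)⁻¹ = h⁻¹ * (g1 * x * g1⁻¹) * h := by group
          _ = x := by rw [hheq x (hQ0R hx)]; group
      have huN : u ∈ N := map_subtype_le _ hu
      have huq : u * q * u⁻¹ ∈ Q0 := (mem_normalizer_iff.1 huN _).1 hq
      have hcq := hc' _ huq
      have hcinv : (h⁻¹ * g1)⁻¹ * q * (h⁻¹ * g1) = q := by
        conv_lhs => rw [← hc q hq]
        group
      calc n * q * n⁻¹ = c' * (u * q * u⁻¹) * c'⁻¹ := by rw [he]; group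
        _ = u * q * u⁻¹ := by rw [← hcq]; group
        _ = (h⁻¹ * g1) * (u * q * u⁻¹) * (h⁻¹ * g1)⁻¹ := (hc _ huq).symm
        _ = (h⁻¹ * g1) * (u * ((h⁻¹ * g1)⁻¹ * q * (h⁻¹ * g1)) * u⁻¹) * (h⁻¹ * g1)⁻¹ := by rw [hcinv]
        _ = _ := by group
  by_cases hQe : Q = (P : Subgroup G)
  · subst hQe
    refine FN _ le_rfl rfl ?_ g ?_
    · rw [inf_eq_left.2 le_normalizer]
      exact fun h => P.not_dvd_index (h.trans (Dvd.intro _ (relIndex_mul_index le_normalizer)))
    · have hmap : (P : Subgroup G).map (MulAut.conj g).toMonoidHom = (P : Subgroup G) := by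
        refine eq_of_le_of_card_ge ?_ (card_map_of_injective (MulAut.conj g).injective).ge
        rintro _ ⟨q, hq, rfl⟩
        exact hg q hq
      refine mem_normalizer_iff.2 fun q => ⟨fun hq => hmap.le ⟨q, hq, rfl⟩, fun hq => ?_⟩
      obtain ⟨z, hz, hze⟩ := hmap.ge hq
      obtain rfl : z = q := mul_left_cancel (mul_right_cancel hze)
      exact hz
  -- normalisers in `P` are bigger
  have grow : ∀ S : Subgroup G, S ≤ (P : Subgroup G) → Nat.card S = Nat.card Q →
      Nat.card Q < Nat.card ↥((P : Subgroup G) ⊓ normalizer (S : Set G)) := by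
    intro S hSP hSc
    rw [← hSc]
    haveI := P.isPGroup'.isNilpotent
    have hne : S ≠ (P : Subgroup G) := fun h => hQe (eq_of_le_of_card_ge hQP (by rw [← hSc, h]))
    have h2 := Group.normalizerCondition_of_isNilpotent (S.subgroupOf (P : Subgroup G))
      (lt_top_iff_ne_top.2 fun h => hne (le_antisymm hSP (subgroupOf_eq_top.1 h)))
    obtain ⟨z, hz, hz'⟩ := SetLike.exists_of_lt h2
    have hzN : (z : G) ∈ normalizer (S : Set G) := by
      refine mem_normalizer_iff.2 fun q => ⟨fun hq => ?_, fun hq => ?_⟩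
      · exact (mem_normalizer_iff.1 hz ⟨q, hSP hq⟩).1 hq
      · have hqP : q ∈ (P : Subgroup G) := by
          have := mul_mem (mul_mem (inv_mem z.2) (hSP hq)) z.2
          rwa [show (z : G)⁻¹ * ((z : G) * q * (z : G)⁻¹) * z = q by group] at this
        exact (mem_normalizer_iff.1 hz ⟨q, hqP⟩).2 hq
    rw [show Nat.card ↥S = (S : Set G).ncard from Nat.card_coe_set_eq _,
      show Nat.card ↥((P : Subgroup G) ⊓ normalizer (S : Set G)) = (((P : Subgroup G) ⊓ normalizer (S : Set G) : Subgroup G) : Set G).ncard from Nat.card_coe_set_eq _]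
    exact Set.ncard_lt_ncard ((Set.ssubset_iff_of_subset (le_inf hSP le_normalizer)).2
      ⟨z, ⟨z.2, hzN⟩, hz'⟩) (Set.toFinite _)
  -- a conjugate with Sylow normaliser
  obtain ⟨a, Q0, hQ0, hfull, ha⟩ : ∃ (a : G) (Q0 : Subgroup G), Q0 = Q.map (MulAut.conj a).toMonoidHom ∧
      ¬ p ∣ ((P : Subgroup G) ⊓ normalizer (Q0 : Set G)).relIndex (normalizer (Q0 : Set G)) ∧
      ∀ r ∈ (P : Subgroup G) ⊓ normalizer (Q : Set G), a * r * a⁻¹ ∈ (P : Subgroup G) := by
    set N := normalizer (Q : Set G)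
    obtain ⟨T, hT⟩ := ((P.isPGroup'.to_le inf_le_left).of_equiv
      (subgroupOfEquivOfLe inf_le_right).symm : IsPGroup p (((P : Subgroup G) ⊓ N).subgroupOf N)).exists_le_sylow
    obtain ⟨T', hT'⟩ := (T.isPGroup'.map N.subtype).exists_le_sylow
    obtain ⟨a, ha⟩ := MulAction.exists_smul_eq G T' P
    have haT : ∀ t ∈ (T : Subgroup ↥N).map N.subtype, a * t * a⁻¹ ∈ (P : Subgroup G) := by
      intro t ht
      rw [← ha, Sylow.coe_subgroup_smul]
      exact ⟨t, hT' ht, rfl⟩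
    refine ⟨a, _, rfl, ?_, fun r hr => haT r ⟨⟨r, hr.2⟩, hT hr, rfl⟩⟩
    set Na := normalizer ((Q.map (MulAut.conj a).toMonoidHom : Subgroup G) : Set G)
    have hNa : N.map (MulAut.conj a).toMonoidHom = Na := map_equiv_normalizer_eq Q (MulAut.conj a)
    have hle : ((T : Subgroup ↥N).map N.subtype).map (MulAut.conj a).toMonoidHom ≤ (P : Subgroup G) ⊓ Na := by
      rintro _ ⟨t, ht, rfl⟩
      exact ⟨haT t ht, hNa.le ⟨t, map_subtype_le _ ht, rfl⟩⟩
    intro h
    have h1 := h.trans (relIndex_dvd_of_le_left Na hle)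
    rw [← hNa, relIndex_map_map_of_injective _ _ (MulAut.conj a).injective] at h1
    refine T.not_dvd_index ?_
    rwa [relIndex, show ((T : Subgroup ↥N).map N.subtype).subgroupOf N = (T : Subgroup ↥N) from
      comap_map_eq_self_of_injective N.subtype_injective _] at h1
  have hQc : Nat.card Q0 = Nat.card Q := by rw [hQ0, card_map_of_injective (MulAut.conj a).injective]
  have hQ0P : Q0 ≤ (P : Subgroup G) := by
    rw [hQ0]
    rintro _ ⟨q, hq, rfl⟩
    exact ha q ⟨hQP hq, le_normalizer hq⟩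
  obtain ⟨ha', hha', haeq⟩ := big _ inf_le_left (grow Q hQP rfl) a ha
  -- the same for the image
  set Q' := Q.map (MulAut.conj g).toMonoidHom
  have hQ'P : Q' ≤ (P : Subgroup G) := by rintro _ ⟨q, hq, rfl⟩; exact hg q hq
  have hQ'c : Nat.card Q' = Nat.card Q := card_map_of_injective (MulAut.conj g).injective
  set m := a * g⁻¹
  have hmQ : Q'.map (MulAut.conj m).toMonoidHom = Q0 := by
    rw [hQ0, map_map]
    refine congrArg (fun f => Q.map f) (MonoidHom.ext fun x => ?_)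
    show m * (g * x * g⁻¹) * m⁻¹ = a * x * a⁻¹
    simp only [m]; group
  obtain ⟨n, hn, hnm⟩ : ∃ n ∈ normalizer (Q0 : Set G), ∀ r ∈ (P : Subgroup G) ⊓ normalizer (Q' : Set G),
      n * m * r * (n * m)⁻¹ ∈ (P : Subgroup G) := by
    set N0 := normalizer (Q0 : Set G)
    have hm0 : (normalizer (Q' : Set G)).map (MulAut.conj m).toMonoidHom = N0 := by
      rw [map_equiv_normalizer_eq Q' (MulAut.conj m)]
      exact congrArg (fun S : Subgroup G => normalizer (S : Set G)) hmQ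
    set R1 := ((P : Subgroup G) ⊓ normalizer (Q' : Set G)).map (MulAut.conj m).toMonoidHom
    have hR1 : R1 ≤ N0 := (map_mono inf_le_right).trans hm0.le
    let T0 : Sylow p ↥N0 := (((P.isPGroup'.to_le inf_le_left).of_equiv
      (subgroupOfEquivOfLe (inf_le_right : (P : Subgroup G) ⊓ N0 ≤ N0)).symm)).toSylow (fun h => hfull h)
    obtain ⟨T1, hT1⟩ := (((P.isPGroup'.to_le inf_le_left).map _).of_equiv
      (subgroupOfEquivOfLe hR1).symm : IsPGroup p (R1.subgroupOf N0)).exists_le_sylow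
    obtain ⟨n, hn⟩ := MulAction.exists_smul_eq ↥N0 T1 T0
    refine ⟨n, n.2, fun r hr => ?_⟩
    have hz : n * ⟨m * r * m⁻¹, hR1 ⟨r, hr, rfl⟩⟩ * n⁻¹ ∈ (T0 : Subgroup ↥N0) := by
      rw [← hn, Sylow.coe_subgroup_smul]
      exact ⟨_, hT1 (show m * r * m⁻¹ ∈ R1 from ⟨r, hr, rfl⟩), rfl⟩
    have hz' : (n : G) * (m * r * m⁻¹) * (n : G)⁻¹ ∈ (P : Subgroup G) ⊓ N0 := hz
    rw [show (n : G) * m * r * ((n : G) * m)⁻¹ = n * (m * r * m⁻¹) * (n : G)⁻¹ by group]
    exact hz'.1
  obtain ⟨hb, hhb, hbeq⟩ := big _ inf_le_left (grow Q' hQ'P hQ'c) (n * m) hnm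
  obtain ⟨hn', hhn, hneq⟩ := FN Q0 hQ0P hQc hfull n hn
  refine ⟨hb⁻¹ * hn' * ha', mul_mem (mul_mem (inv_mem hhb) hhn) hha', fun q hq => ?_⟩
  have hgq : g * q * g⁻¹ ∈ Q' := ⟨q, hq, rfl⟩
  have h1 := hbeq (g * q * g⁻¹) ⟨hQ'P hgq, le_normalizer hgq⟩
  have h2 := haeq q ⟨hQP hq, le_normalizer hq⟩
  have h3 := hneq (a * q * a⁻¹) (by rw [hQ0]; exact ⟨q, hq, rfl⟩)
  calc g * q * g⁻¹ = hb⁻¹ * (hb * (g * q * g⁻¹) * hb⁻¹) * hb := by group
    _ = hb⁻¹ * (n * m * (g * q * g⁻¹) * (n * m)⁻¹) * hb := by rw [h1]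
    _ = hb⁻¹ * (n * (a * q * a⁻¹) * n⁻¹) * hb := by simp only [m]; group
    _ = hb⁻¹ * (hn' * (ha' * q * ha'⁻¹) * hn'⁻¹) * hb := by rw [h3, h2]
    _ = _ := by group

/-- `p`-elements of `H` conjugate in `G` are conjugate in `H`. -/
theorem pElement_fusion (hS : Setup π H) {p : ℕ} [Fact p.Prime] (hpπ : p ∈ π) {x : G} {k : ℕ}
    (hx : x ∈ H) (hord : orderOf x = p ^ k) {g : G} (hgx : g * x * g⁻¹ ∈ H) :
    ∃ h ∈ H, h * x * h⁻¹ = g * x * g⁻¹ := by
  obtain ⟨PH⟩ : Nonempty (Sylow p ↥H) := inferInstance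
  let P : Sylow p G := (PH.isPGroup'.map H.subtype).toSylow (by
    show ¬ p ∣ ((PH : Subgroup ↥H).map H.subtype).index
    rw [index_map_subtype]
    exact fun h => ((Fact.out : p.Prime).dvd_mul.1 h).elim PH.not_dvd_index (hS.hall p hpπ))
  have hPH : (P : Subgroup G) ≤ H := map_subtype_le _
  have into : ∀ (y : G), y ∈ H → orderOf y = p ^ k → ∃ h ∈ H, h * y * h⁻¹ ∈ (P : Subgroup G) := by
    intro y hy hyo
    obtain ⟨T, hT⟩ := (IsPGroup.of_card (G := zpowers (⟨y, hy⟩ : ↥H)) (p := p) (n := k) (by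
      rw [Nat.card_zpowers, ← orderOf_coe, hyo])).exists_le_sylow
    obtain ⟨h, hh⟩ := MulAction.exists_smul_eq ↥H T PH
    refine ⟨h, h.2, h * ⟨y, hy⟩ * h⁻¹, ?_, rfl⟩
    rw [← hh, Sylow.coe_subgroup_smul]
    exact ⟨⟨y, hy⟩, hT (mem_zpowers _), rfl⟩
  obtain ⟨h1, hh1, hx1⟩ := into x hx hord
  obtain ⟨h2, hh2, hx2⟩ := into (g * x * g⁻¹) hgx (by
    rw [← hord]; exact (MulEquiv.orderOf_eq (MulAut.conj g) x))
  obtain ⟨h, hh, heq⟩ := controls hS hpπ P hPH (zpowers (h1 * x * h1⁻¹)) (zpowers_le.2 hx1)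
    (h2 * g * h1⁻¹) (fun q hq => by
      obtain ⟨j, rfl⟩ := mem_zpowers_iff.1 hq
      rw [← conj_zpow]
      refine zpow_mem ?_ j
      rwa [show h2 * g * h1⁻¹ * (h1 * x * h1⁻¹) * (h2 * g * h1⁻¹)⁻¹ = h2 * (g * x * g⁻¹) * h2⁻¹ by group])
  refine ⟨h2⁻¹ * h * h1, mul_mem (mul_mem (inv_mem hh2) hh) hh1, ?_⟩
  have := heq _ (mem_zpowers _)
  calc h2⁻¹ * h * h1 * x * (h2⁻¹ * h * h1)⁻¹ = h2⁻¹ * (h * (h1 * x * h1⁻¹) * h⁻¹) * h2 := by group
    _ = h2⁻¹ * (h2 * g * h1⁻¹ * (h1 * x * h1⁻¹) * (h2 * g * h1⁻¹)⁻¹) * h2 := by rw [this]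
    _ = _ := by group

/-- The centraliser of a `p`-element of `H` inherits the hypothesis. -/
theorem setup_centralizer (hS : Setup π H) {p : ℕ} [Fact p.Prime] (hpπ : p ∈ π) {x : G} {k : ℕ}
    (hx : x ∈ H) (hord : orderOf x = p ^ k) :
    Setup π (H.subgroupOf (centralizer ({x} : Set G))) := by
  set C := centralizer ({x} : Set G)
  -- any `π`-subgroup of `C` can be moved into `H` inside `C`
  have move : ∀ U : Subgroup G, U ≤ C → PiN π (Nat.card U) → ∃ c ∈ C, U.map (MulAut.conj c).toMonoidHom ≤ H := by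
    intro U hUC hUπ
    have hnorm : U ≤ normalizer ((zpowers x : Subgroup G) : Set G) := hUC.trans (by
      intro c hc
      refine (centralizer_le_normalizer _) ?_
      show c ∈ centralizer ((zpowers x : Subgroup G) : Set G)
      intro z hz
      obtain ⟨j, rfl⟩ := mem_zpowers_iff.1 hz
      have hcx : Commute c x := mem_centralizer_singleton_iff.1 hc
      exact (hcx.zpow_right j).symm.eq)
    have hπ : PiN π (Nat.card ↥(U ⊔ zpowers x)) := by
      refine PiN.of_dvd ((piN_prime_pow (Fact.out : p.Prime) hpπ k).mul hUπ) ?_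
      have h1 := card_mul_relIndex_eq (le_sup_right : zpowers x ≤ U ⊔ zpowers x)
      rw [relIndex_sup_of_le hnorm, Nat.card_zpowers, hord] at h1
      rw [← h1]
      exact mul_dvd_mul dvd_rfl (relIndex_dvd_card _ _)
    obtain ⟨g, hg⟩ := hS.dom _ hπ
    obtain ⟨h, hh, he⟩ := pElement_fusion hS hpπ hx hord
      (conj_mem_of_le hg (le_sup_right (a := U) (mem_zpowers x)))
    refine ⟨h⁻¹ * g, mem_centralizer_singleton_iff.2 ?_, ?_⟩
    · calc h⁻¹ * g * x = h⁻¹ * (g * x * g⁻¹) * g := by group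
        _ = x * (h⁻¹ * g) := by rw [← he]; group
    · rintro _ ⟨u, hu, rfl⟩
      show h⁻¹ * g * u * (h⁻¹ * g)⁻¹ ∈ H
      rw [show h⁻¹ * g * u * (h⁻¹ * g)⁻¹ = h⁻¹ * (g * u * g⁻¹) * h by group]
      exact mul_mem (mul_mem (inv_mem hh) (conj_mem_of_le hg (le_sup_left (b := zpowers x) hu))) hh
  refine ⟨hS.prime, ?_, ?_, ?_, ?_⟩
  · exact hS.piH.of_dvd (card_comap_dvd_of_injective H C.subtype C.subtype_injective)
  · intro q hqπ
    haveI : Fact q.Prime := ⟨hS.prime q hqπ⟩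
    obtain ⟨T⟩ : Nonempty (Sylow q ↥C) := inferInstance
    have hTπ : PiN π (Nat.card ((T : Subgroup ↥C).map C.subtype)) := by
      rw [card_map_of_injective C.subtype_injective, T.card_eq_multiplicity]
      exact piN_prime_pow Fact.out hqπ _
    obtain ⟨c, hc, hcT⟩ := move _ (map_subtype_le _) hTπ
    intro h
    refine ((⟨c, hc⟩ : ↥C) • T).not_dvd_index (h.trans (index_dvd_of_le ?_))
    rw [Sylow.coe_subgroup_smul]
    rintro _ ⟨t, ht, rfl⟩
    exact hcT ⟨t, ⟨t, ht, rfl⟩, rfl⟩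
  · intro U hU
    obtain ⟨c, hc, hcU⟩ := move (U.map C.subtype) (map_subtype_le _)
      (by rwa [card_map_of_injective C.subtype_injective])
    refine ⟨⟨c, hc⟩, ?_⟩
    rintro _ ⟨u, hu, rfl⟩
    exact hcU ⟨u, ⟨u, hu, rfl⟩, rfl⟩
  · intro Q hQ hQπ
    set Q' := Q.map C.subtype
    have h1 := hS.auto Q' (fun h => hQ ((map_eq_bot_iff_of_injective _ C.subtype_injective).1 h))
      (by rwa [card_map_of_injective C.subtype_injective])
    refine h1.of_dvd ?_
    have hcen : centralizer (Q : Set ↥C) = (centralizer (Q' : Set G)).subgroupOf C := by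
      ext c
      rw [mem_subgroupOf, mem_centralizer_iff, mem_centralizer_iff]
      constructor
      · rintro h _ ⟨q, hq, rfl⟩; exact congrArg Subtype.val (h q hq)
      · exact fun h q hq => Subtype.ext (h q ⟨q, hq, rfl⟩)
    have hN : (normalizer (Q : Set ↥C)).map C.subtype ≤ normalizer (Q' : Set G) := le_normalizer_map _
    rw [hcen, subgroupOf, relIndex_comap]
    have := centralizer_le_normalizer (Q' : Set G)
    haveI : ((centralizer (Q' : Set G)).subgroupOf (normalizer (Q' : Set G))).Normal := inferInstance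
    rw [← relIndex_subgroupOf (H := centralizer (Q' : Set G)) hN]
    exact relIndex_dvd_index_of_normal ..

/-- `H` controls the fusion of its elements. -/
theorem element_fusion : ∀ {G : Type u} [Group G] [Finite G] {π : Set ℕ} {H : Subgroup G},
    Setup π H → ∀ x ∈ H, ∀ g : G, g * x * g⁻¹ ∈ H → ∃ h ∈ H, h * x * h⁻¹ = g * x * g⁻¹ := by
  intro G _ _
  induction hn : Nat.card G using Nat.strong_induction_on generalizing G with
  | _ n ih =>
  subst hn
  intro π H hS x hx g hgx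
  by_cases hcen : x ∈ center G
  · exact ⟨1, one_mem _, by rw [mem_center_iff.1 hcen g]; group⟩
  obtain ⟨p, hpp, hp⟩ : ∃ p : ℕ, p.Prime ∧
      x ^ (orderOf x / p ^ (orderOf x).factorization p) ∉ center G := by
    by_contra hcon
    push Not at hcon
    apply hcen
    let K : AddSubgroup ℤ :=
      { carrier := {j | x ^ j ∈ center G}
        add_mem' := fun {a b} ha hb => by
          show x ^ (a + b) ∈ center G
          rw [zpow_add]; exact mul_mem ha hb
        zero_mem' := by show x ^ (0 : ℤ) ∈ center G; rw [zpow_zero]; exact one_mem _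
        neg_mem' := fun {a} ha => by show x ^ (-a) ∈ center G; rw [zpow_neg]; exact inv_mem ha }
    obtain ⟨d, hd⟩ := Int.subgroup_cyclic K
    have hdall : ∀ j : ℕ, (x ^ j ∈ center G) → d.natAbs ∣ j := by
      intro j hj
      have h1 : ((j : ℕ) : ℤ) ∈ K := by show x ^ ((j : ℕ) : ℤ) ∈ center G; rwa [zpow_natCast]
      rw [hd, AddSubgroup.mem_closure_singleton] at h1
      obtain ⟨e, he⟩ := h1
      exact Int.ofNat_dvd_right.1 (Int.natAbs_dvd.2 ⟨e, by rw [← he]; simp [mul_comm]⟩) |>.trans dvd_rfl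
    have hd1 : d.natAbs = 1 := by
      by_contra hne
      obtain ⟨q, hq, hqd⟩ := Nat.exists_prime_and_dvd hne
      exact Nat.not_dvd_ordCompl hq (orderOf_pos x).ne' (hqd.trans (hdall _ (hcon q hq)))
    have h1 : (1 : ℤ) ∈ K := by
      rw [hd, AddSubgroup.mem_closure_singleton]
      rcases Int.natAbs_eq_iff.1 hd1 with h | h
      · exact ⟨1, by simp [h]⟩
      · exact ⟨-1, by simp [h]⟩
    have h2 : x ^ (1 : ℤ) ∈ center G := h1
    rwa [zpow_one] at h2
  haveI : Fact p.Prime := ⟨hpp⟩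
  set m := orderOf x / p ^ (orderOf x).factorization p with hm
  set x1 := x ^ m
  have hx1o : orderOf x1 = p ^ (orderOf x).factorization p := by
    rw [orderOf_pow_of_dvd (Nat.ordCompl_pos p (orderOf_pos x).ne').ne' (Nat.ordCompl_dvd _ _),
      Nat.div_div_self (Nat.ordProj_dvd _ _) (orderOf_pos x).ne']
  have hpπ : p ∈ π := by
    refine hS.piH p hpp ?_
    have hne : (orderOf x).factorization p ≠ 0 := fun h => hp (by
      show x1 ∈ center G
      rw [orderOf_eq_one_iff.1 (show orderOf x1 = 1 by rw [hx1o, h, pow_zero])]; exact one_mem _)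
    refine ((dvd_pow_self p hne).trans (Nat.ordProj_dvd _ _)).trans ?_
    have h := orderOf_dvd_natCard (⟨x, hx⟩ : ↥H)
    rwa [← orderOf_coe] at h
  have hx1 : x1 ∈ H := pow_mem hx _
  obtain ⟨h, hh, he⟩ := pElement_fusion hS hpπ hx1 hx1o (g := g) (by
    rw [← conj_pow]; exact pow_mem hgx _)
  set C := centralizer ({x1} : Set G)
  have hSC := setup_centralizer hS hpπ hx1 hx1o
  have hlt : Nat.card C < Nat.card G := by
    refine lt_of_le_of_ne (card_le_card_group C) fun e => hp ?_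
    have := eq_top_of_card_eq C e
    exact mem_center_iff.2 fun y => mem_centralizer_singleton_iff.1 (this.ge (mem_top y) : y ∈ C)
  have hgC : h⁻¹ * g ∈ C := mem_centralizer_singleton_iff.2 (by
    calc h⁻¹ * g * x1 = h⁻¹ * (g * x1 * g⁻¹) * g := by group
      _ = x1 * (h⁻¹ * g) := by rw [← he]; group)
  have hxC : x ∈ C := mem_centralizer_singleton_iff.2 ((Commute.refl x).pow_right m).eq
  obtain ⟨h', hh', he'⟩ := ih _ hlt rfl hSC ⟨x, hxC⟩ hx ⟨_, hgC⟩ (by
    show h⁻¹ * g * x * (h⁻¹ * g)⁻¹ ∈ H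
    rw [show h⁻¹ * g * x * (h⁻¹ * g)⁻¹ = h⁻¹ * (g * x * g⁻¹) * h by group]
    exact mul_mem (mul_mem (inv_mem hh) hgx) hh)
  refine ⟨h * h', mul_mem hh hh', ?_⟩
  have he'' : (h' : G) * x * (h' : G)⁻¹ = h⁻¹ * g * x * (h⁻¹ * g)⁻¹ := congrArg Subtype.val he'
  calc h * h' * x * (h * (h' : G))⁻¹ = h * ((h' : G) * x * (h' : G)⁻¹) * h⁻¹ := by group
    _ = _ := by rw [he'']; group

/-- The normal `π`-complement. -/
theorem exists_complement (hS : Setup π H) :
    ∃ K : Subgroup G, K.Normal ∧ ∀ x : G, x ∈ K ↔ ∀ p : ℕ, p.Prime → p ∣ orderOf x → p ∉ π := by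
  have hcop : (Nat.card H).Coprime H.index :=
    Nat.coprime_of_dvd fun q hq h1 h2 => hS.hall q (hS.piH q hq h1) h2
  obtain ⟨K, hK, hsup, hinf⟩ := Cfsg.Agent.S0877.result H hcop
    (fun x hx y hy hxy => by
      obtain ⟨g, hg⟩ := isConj_iff.1 hxy
      obtain ⟨h, hh, he⟩ := element_fusion hS x hx g (hg ▸ hy)
      exact ⟨h, hh, he.trans hg⟩)
    (fun E q _ _ hE => hS.dom E (hS.piH.of_dvd hE))
  refine ⟨K, hK, fun x => ⟨fun hx q hq hd hqπ => ?_, fun hx => ?_⟩⟩
  · have hKc : Nat.card K = H.index := by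
      have h1 : IsComplement' K H := isComplement'_of_disjoint_and_mul_eq_univ (disjoint_iff.2 hinf)
        (by rw [← normal_mul, hsup, coe_top])
      exact h1.index_eq_card.symm
    refine hS.hall q hqπ (hKc ▸ hd.trans ?_)
    have h := orderOf_dvd_natCard (⟨x, hx⟩ : ↥K)
    rwa [← orderOf_coe] at h
  · have h1 : K.index ∣ Nat.card H := by
      have h2 : K.relIndex (H ⊔ K) = K.relIndex H := relIndex_sup_right ..
      rw [sup_comm, hsup, relIndex_top_right] at h2
      rw [h2]; exact relIndex_dvd_card _ _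
    by_contra hxK
    have h3 : orderOf (x : G ⧸ K) ≠ 1 := fun e => hxK ((QuotientGroup.eq_one_iff x).1 (orderOf_eq_one_iff.1 e))
    obtain ⟨q, hq, hqd⟩ := Nat.exists_prime_and_dvd h3
    refine hx q hq (hqd.trans (orderOf_map_dvd (QuotientGroup.mk' K) x)) (hS.piH q hq ?_)
    exact hqd.trans (_root_.orderOf_dvd_natCard _ |>.trans (by rw [← index_eq_card]; exact h1))

end CfsgLib.Fusion.PiHomogeneous
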